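import Groth.Agent.H24.NodeRing.Core
import Groth.Agent.H24.PowerSeries
import Mathlib.RingTheory.PowerSeries.WeierstrassPreparation
import Mathlib.Algebra.DualNumber
import Mathlib.RingTheory.MvPowerSeries.Inverse
import Mathlib.RingTheory.Ideal.Quotient.Operations

/-!
# The thickness of a node is unique

If `R[[x, y]]/(xy - b)` maps `R`-linearly onto `R[[x, y]]/(xy)` then `b = 0`.
-/

set_option autoImplicit false
set_option linter.style.haveILetI false

universe u

open IsLocalRing

namespace Groth.Agent.H24.ThickNode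

open Groth.Agent.H24.NodeRing

variable {R : Type u} [CommRing R]

/-- Restriction of a series to an axis. -/
theorem X_dvd_sub_ser (i : Fin 2) (F : MvPowerSeries (Fin 2) R) :
    MvPowerSeries.X (1 - i) ∣ F - ser i (fun n => MvPowerSeries.coeff (Finsupp.single i n) F) := by
  rw [MvPowerSeries.X_dvd_iff]
  intro d hd
  rw [map_sub, coeff_ser, if_pos hd, sub_eq_zero]
  have hd' : d = Finsupp.single i (d i) := Finsupp.ext fun j => by
    fin_cases i <;> fin_cases j <;> simp_all [Finsupp.single_apply]
  conv_lhs => rw [hd']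

theorem ser_add_mul (i : Fin 2) (c : R) (u v : ℕ → R) :
    ser i (fun n => u n + c * v n) = ser i u + MvPowerSeries.C c * ser i v := by
  ext d
  rw [map_add, MvPowerSeries.coeff_C_mul, coeff_ser, coeff_ser, coeff_ser]
  split_ifs <;> simp

variable [IsLocalRing R] [IsAdicComplete (maximalIdeal R) R]

/-- A series vanishes at a point of an axis if its linear coefficient there is a unit. -/
theorem exists_eval_eq_zero (F : MvPowerSeries (Fin 2) R) (i : Fin 2)
    (h0 : MvPowerSeries.coeff (Finsupp.single i 0) F ∈ maximalIdeal R)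
    (h1 : MvPowerSeries.coeff (Finsupp.single i 1) F ∉ maximalIdeal R) :
    ∃ ε : MvPowerSeries (Fin 2) R →ₐ[R] R,
      ε (MvPowerSeries.X 0 * MvPowerSeries.X 1) = 0 ∧ ε F = 0 := by
  let g : PowerSeries R := PowerSeries.mk fun n => MvPowerSeries.coeff (Finsupp.single i n) F
  have hord : (g.map (residue R)).order = (1 : ℕ) := by
    refine PowerSeries.order_eq_nat.2 ⟨?_, fun j hj => ?_⟩
    · rw [PowerSeries.coeff_map, PowerSeries.coeff_mk]
      exact fun h => h1 ((residue_eq_zero_iff _).1 h)
    · obtain rfl : j = 0 := by omega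
      rw [PowerSeries.coeff_map, PowerSeries.coeff_mk]
      exact (residue_eq_zero_iff _).2 h0
  have hg : g.map (residue R) ≠ 0 := fun h => by
    rw [h, PowerSeries.order_zero] at hord
    exact ENat.top_ne_coe 1 hord
  obtain ⟨f, w, H⟩ := g.exists_isWeierstrassFactorization hg
  have hdeg : f.natDegree = 1 := by
    rw [H.natDegree_eq_toNat_order_map, hord]; rfl
  have hf : f = Polynomial.X + Polynomial.C (f.coeff 0) :=
    H.isDistinguishedAt.monic.eq_X_add_C hdeg
  have hc : f.coeff 0 ∈ maximalIdeal R := H.isDistinguishedAt.mem (by rw [hdeg]; exact one_pos)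
  let c := f.coeff 0
  let u : ℕ → R := fun n => PowerSeries.coeff n w
  have hw : g = (PowerSeries.X + PowerSeries.C c) * w := by
    rw [H.eq_mul]
    congr 1
    conv_lhs => rw [hf]
    simp [c]
  have e0 : MvPowerSeries.coeff (Finsupp.single i 0) F = c * u 0 := by
    have h := congrArg (PowerSeries.coeff 0) hw
    rw [PowerSeries.coeff_mk, add_mul, map_add, PowerSeries.coeff_C_mul] at h
    simpa [u] using h
  have e1 : ∀ n, MvPowerSeries.coeff (Finsupp.single i (n + 1)) F = u n + c * u (n + 1) := by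
    intro n
    have h := congrArg (PowerSeries.coeff (n + 1)) hw
    rw [PowerSeries.coeff_mk, add_mul, map_add, PowerSeries.coeff_C_mul,
      PowerSeries.coeff_succ_X_mul] at h
    exact h
  have hser : ser i (fun n => MvPowerSeries.coeff (Finsupp.single i n) F) =
      (MvPowerSeries.X i + MvPowerSeries.C c) * ser i u := by
    rw [ser_succ i fun n => MvPowerSeries.coeff (Finsupp.single i n) F, e0,
      show (fun n => MvPowerSeries.coeff (Finsupp.single i (n + 1)) F) =
        fun n => u n + c * u (n + 1) from funext e1, ser_add_mul]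
    conv_rhs => rw [add_mul, ser_succ i u]
    rw [map_mul]
    conv_rhs => rw [← ser_succ i u, mul_comm (MvPowerSeries.X i)]
    conv_rhs => enter [2]; rw [ser_succ i u]
    ring
  obtain ⟨ε, hε⟩ := Groth.Agent.H24.PowerSeries.exists_hom (A := R) (maximalIdeal R)
    (fun j : Fin 2 => if j = i then -c else 0)
    (fun j => by
      by_cases h : j = i
      · simp only [h, if_true]; exact neg_mem hc
      · simp [h])
  have hi : ε (MvPowerSeries.X i) = -c := by rw [hε]; simp
  have hi' : ε (MvPowerSeries.X (1 - i)) = 0 := by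
    rw [hε, if_neg]; fin_cases i <;> decide
  refine ⟨ε, ?_, ?_⟩
  · rw [map_mul]
    rcases (show i = 0 ∨ i = 1 by fin_cases i <;> simp) with rfl | rfl
    · rw [show ε (MvPowerSeries.X 1) = 0 from hi', mul_zero]
    · rw [show ε (MvPowerSeries.X 0) = 0 from hi', zero_mul]
  · obtain ⟨G, hG⟩ := X_dvd_sub_ser i F
    rw [sub_eq_iff_eq_add'] at hG
    rw [hG, map_add, map_mul, hi', zero_mul, add_zero, hser, map_mul, map_add, hi,
      show (MvPowerSeries.C c : MvPowerSeries (Fin 2) R) =
        algebraMap R (MvPowerSeries (Fin 2) R) c from rfl, ε.commutes]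
    simp

/-- A node of thickness `b` maps onto the node of thickness zero only if `b = 0`. -/
theorem eq_zero_of_surjective (b : R)
    (ψ : MvPowerSeries (Fin 2) R →+* MvPowerSeries (Fin 2) R ⧸
      Ideal.span {(MvPowerSeries.X 0 * MvPowerSeries.X 1 : MvPowerSeries (Fin 2) R)})
    (hs : Function.Surjective ψ)
    (hC : ∀ r : R, ψ (MvPowerSeries.C r) = Ideal.Quotient.mk _ (MvPowerSeries.C r))
    (hrel : ψ (MvPowerSeries.X 0 * MvPowerSeries.X 1 - MvPowerSeries.C b) = 0) : b = 0 := by
  classical
  let M : Ideal (MvPowerSeries (Fin 2) R) :=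
    Ideal.span {(MvPowerSeries.X 0 * MvPowerSeries.X 1 : MvPowerSeries (Fin 2) R)}
  let D := DualNumber (ResidueField R)
  let I : Ideal D := Ideal.span {DualNumber.eps}
  have hI : I ^ 2 = ⊥ := by
    rw [Ideal.span_singleton_pow, pow_two, DualNumber.eps_mul_eps, Ideal.span_singleton_zero]
  haveI : IsAdicComplete I D := Groth.Agent.H24.PowerSeries.isAdicComplete_of_pow_eq_bot I 2 hI
  have hex : ∀ i : Fin 2, ∃ τ : MvPowerSeries (Fin 2) R →ₐ[R] D,
      τ (MvPowerSeries.X i) = DualNumber.eps ∧ τ (MvPowerSeries.X (1 - i)) = 0 := fun i => by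
    obtain ⟨τ, hτ⟩ := Groth.Agent.H24.PowerSeries.exists_hom (A := R) I
      (fun j : Fin 2 => if j = i then DualNumber.eps else 0)
      (fun j => by
        by_cases h : j = i
        · simp only [h, if_true]; exact Ideal.mem_span_singleton_self _
        · simp [h])
    refine ⟨τ, by rw [hτ]; simp, ?_⟩
    rw [hτ, if_neg]; fin_cases i <;> decide
  have hCm : ∀ (τ : MvPowerSeries (Fin 2) R →ₐ[R] D) (r : R), r ∈ maximalIdeal R →
      τ (MvPowerSeries.C r) = 0 := fun τ r hr => by
    rw [show (MvPowerSeries.C r : MvPowerSeries (Fin 2) R) = algebraMap R _ r from rfl, τ.commutes,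
      IsScalarTower.algebraMap_apply R (ResidueField R) D, ResidueField.algebraMap_eq,
      (residue_eq_zero_iff r).2 hr, map_zero]
  -- the lifts of the images of the variables have no constant term
  haveI hnt : Nontrivial (MvPowerSeries (Fin 2) R ⧸ M) := Ideal.Quotient.nontrivial_iff.2 fun h => by
    obtain ⟨τ, h1, h2⟩ := hex 0
    obtain ⟨z, hz⟩ := Ideal.mem_span_singleton'.1 ((Ideal.eq_top_iff_one M).1 h)
    have := congrArg τ hz
    rw [map_mul, map_mul, show (1 : Fin 2) = 1 - 0 from rfl, h2, mul_zero, mul_zero, map_one] at this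
    exact zero_ne_one this
  haveI : IsLocalHom ψ := IsLocalHom.of_surjective ψ hs
  choose F hF using fun j : Fin 2 => Ideal.Quotient.mk_surjective (I := M) (ψ (MvPowerSeries.X j))
  have hF0 : ∀ j i, MvPowerSeries.coeff (Finsupp.single i 0) (F j) ∈ maximalIdeal R := by
    intro j i hu
    rw [Finsupp.single_zero, MvPowerSeries.coeff_zero_eq_constantCoeff] at hu
    have h1 : IsUnit (ψ (MvPowerSeries.X j)) := by
      rw [← hF j]
      exact (MvPowerSeries.isUnit_iff_constantCoeff.2 hu).map _
    have h2 := MvPowerSeries.isUnit_iff_constantCoeff.1 (isUnit_of_map_unit ψ _ h1)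
    simp at h2
  by_cases hlin : ∃ j i, MvPowerSeries.coeff (Finsupp.single i 1) (F j) ∉ maximalIdeal R
  · obtain ⟨j, i, hji⟩ := hlin
    obtain ⟨ε, hε, hεF⟩ := exists_eval_eq_zero (F j) i (hF0 j i) hji
    let εQ : MvPowerSeries (Fin 2) R ⧸ M →+* R := Ideal.Quotient.lift M ε.toRingHom fun z hz => by
      obtain ⟨w, rfl⟩ := Ideal.mem_span_singleton'.1 hz
      rw [map_mul]
      exact (mul_eq_zero_of_right _ hε)
    have hεQ : ∀ z, εQ (Ideal.Quotient.mk M z) = ε z := fun z => rfl
    have h := congrArg εQ hrel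
    rw [map_sub, map_mul, hC, map_sub, map_mul, ← hF 0, ← hF 1, hεQ, hεQ, hεQ, map_zero] at h
    rw [show (MvPowerSeries.C b : MvPowerSeries (Fin 2) R) = algebraMap R _ b from rfl,
      ε.commutes] at h
    fin_cases j <;> simp_all
  · push Not at hlin
    exfalso
    obtain ⟨τ, h1, h2⟩ := hex 0
    let τQ : MvPowerSeries (Fin 2) R ⧸ M →+* D := Ideal.Quotient.lift M τ.toRingHom fun z hz => by
      obtain ⟨w, rfl⟩ := Ideal.mem_span_singleton'.1 hz
      rw [map_mul, map_mul]
      refine mul_eq_zero_of_right _ (mul_eq_zero_of_right _ ?_)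
      exact h2
    have hX : ∀ j, τQ (ψ (MvPowerSeries.X j)) = 0 := fun j => by
      rw [← hF j, Ideal.Quotient.lift_mk]
      obtain ⟨G, hG⟩ := X_dvd_sub_ser 0 (F j)
      rw [sub_eq_iff_eq_add'] at hG
      show τ (F j) = 0
      rw [hG, map_add, map_mul, h2, zero_mul, add_zero,
        ser_succ 0 fun n => MvPowerSeries.coeff (Finsupp.single 0 n) (F j), map_add, map_mul,
        hCm τ _ (hF0 j 0), zero_add, h1, ser_succ 0, map_add, map_mul, hCm τ _ (hlin j 0), zero_add,
        h1, ← mul_assoc, DualNumber.eps_mul_eps, zero_mul]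
    obtain ⟨h, hh⟩ := hs (Ideal.Quotient.mk M (MvPowerSeries.X 0))
    obtain ⟨G, hG⟩ := X_dvd_sub_ser 0 h
    rw [sub_eq_iff_eq_add', ser_succ 0 fun n => MvPowerSeries.coeff (Finsupp.single 0 n) h] at hG
    have h4 := congrArg τQ hh
    rw [hG, map_add, map_add, map_mul, map_mul, map_add, map_add, map_mul, map_mul, hX, hX,
      zero_mul, zero_mul, add_zero, add_zero, hC, Ideal.Quotient.lift_mk, Ideal.Quotient.lift_mk] at h4
    change τ _ = τ _ at h4
    rw [show (MvPowerSeries.C _ : MvPowerSeries (Fin 2) R) = algebraMap R _ _ from rfl, τ.commutes,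
      h1, IsScalarTower.algebraMap_apply R (ResidueField R) D] at h4
    have h5 := congrArg TrivSqZeroExt.snd h4
    rw [TrivSqZeroExt.algebraMap_eq_inl', TrivSqZeroExt.snd_inl, DualNumber.snd_eps] at h5
    exact zero_ne_one h5

end Groth.Agent.H24.ThickNode
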