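import Groth.Prelude.Def_DualGr
import Groth.Agent.H24.ThickNode.Unique
import Groth.Agent.H24.SectionPowerSeries
import Groth.Agent.Lib.Adic.Complete
import Groth.Agent.Lib.FSAdic.Completion
import Mathlib.RingTheory.AdicCompletion.LocalRing
import Mathlib.RingTheory.Filtration

/-!
# Comparing two node presentations
-/

set_option autoImplicit false
set_option linter.style.haveILetI false

universe u

open IsLocalRing

namespace Groth.Agent.H24.ThickNode

theorem algebraMap_mem_span {R : Type u} [CommRing R] [IsLocalRing R] [IsNoetherianRing R] (a b : R)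
    (ha : a ∈ maximalIdeal R) (e : DualGr.nodeRing R b ≃+* DualGr.nodeRing R a)
    (he : ∀ r : R, e (Ideal.Quotient.mk _ (MvPowerSeries.C (algebraMap R (Curv2.cpl R) r))) =
      Ideal.Quotient.mk _ (MvPowerSeries.C (algebraMap R (Curv2.cpl R) r))) :
    algebraMap R (Curv2.cpl R) b ∈ Ideal.span {algebraMap R (Curv2.cpl R) a} := by
  classical
  let Rh := Curv2.cpl R
  let P := MvPowerSeries (Fin 2) Rh
  let a' := algebraMap R Rh a
  let b' := algebraMap R Rh b
  let I : Ideal Rh := Ideal.span {a'}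
  have ha' : a' ∈ maximalIdeal Rh := by
    rw [AdicCompletion.maximalIdeal_eq_map]; exact Ideal.mem_map_of_mem _ ha
  have hI : I ≤ maximalIdeal Rh := (Ideal.span_singleton_le_iff_mem _).2 ha'
  let R' := Rh ⧸ I
  haveI : Nontrivial R' := Ideal.Quotient.nontrivial_iff.2 fun h => (maximalIdeal.isMaximal Rh).ne_top
    (eq_top_iff.2 (h ▸ hI))
  haveI : IsLocalRing R' := .of_surjective' (Ideal.Quotient.mk I) Ideal.Quotient.mk_surjective
  haveI : IsAdicComplete (maximalIdeal R') R' := by
    rw [← IsLocalRing.map_maximalIdeal_of_surjective (Ideal.Quotient.mk I) Ideal.Quotient.mk_surjective]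
    exact Groth.Agent.Lib.Adic.Complete.isAdicComplete_quotient I
  let P' := MvPowerSeries (Fin 2) R'
  let M : Ideal P' := Ideal.span {(MvPowerSeries.X 0 * MvPowerSeries.X 1 : P')}
  let mp : P →+* P' := MvPowerSeries.map (Ideal.Quotient.mk I)
  have hmps : Function.Surjective mp := fun g => by
    choose w hw using fun d => Ideal.Quotient.mk_surjective (I := I) (MvPowerSeries.coeff d g)
    exact ⟨(fun d => w d : P), MvPowerSeries.ext fun d => (MvPowerSeries.coeff_map _ _ _).trans (hw d)⟩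
  let qa : DualGr.nodeRing R a →+* P' ⧸ M := Ideal.Quotient.lift _
    ((Ideal.Quotient.mk M).comp mp) fun z hz => by
      obtain ⟨w, rfl⟩ := Ideal.mem_span_singleton'.1 hz
      rw [RingHom.comp_apply, map_mul, map_mul, map_sub mp, map_mul mp, MvPowerSeries.map_X,
        MvPowerSeries.map_X, MvPowerSeries.map_C,
        Ideal.Quotient.eq_zero_iff_mem.2 (Ideal.mem_span_singleton_self a'), map_zero, sub_zero,
        Ideal.Quotient.eq_zero_iff_mem.2 (Ideal.mem_span_singleton_self _), mul_zero]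
  have hqa : Function.Surjective qa := fun y => by
    obtain ⟨z, rfl⟩ := Ideal.Quotient.mk_surjective y
    obtain ⟨z, rfl⟩ := hmps z
    exact ⟨Ideal.Quotient.mk _ z, rfl⟩
  let χ : P →+* P' ⧸ M := qa.comp (e.toRingHom.comp (Ideal.Quotient.mk _))
  have hχs : Function.Surjective χ :=
    hqa.comp (e.surjective.comp Ideal.Quotient.mk_surjective)
  let f₁ : Rh →+* P' ⧸ M := χ.comp MvPowerSeries.C
  let f₂ : Rh →+* P' ⧸ M := (Ideal.Quotient.mk M).comp (mp.comp MvPowerSeries.C)
  have hR : ∀ r : R, f₁ (algebraMap R Rh r) = f₂ (algebraMap R Rh r) := fun r =>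
    (congrArg qa (he r)).trans rfl
  have hMtop : M ≠ ⊤ := fun h => by
    obtain ⟨z, hz⟩ := Ideal.mem_span_singleton'.1 ((Ideal.eq_top_iff_one M).1 h)
    have := congrArg MvPowerSeries.constantCoeff hz
    simp at this
  haveI : Nontrivial (P' ⧸ M) := Ideal.Quotient.nontrivial_iff.2 hMtop
  haveI : IsLocalRing (P' ⧸ M) := .of_surjective' (Ideal.Quotient.mk M) Ideal.Quotient.mk_surjective
  haveI : IsNoetherianRing (P' ⧸ M) := inferInstance
  have hloc : ∀ (g : P →+* P' ⧸ M), Function.Surjective g →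
      (maximalIdeal Rh).map (g.comp MvPowerSeries.C) ≤ maximalIdeal (P' ⧸ M) := fun g hg => by
    haveI : IsLocalHom g := IsLocalHom.of_surjective g hg
    rw [Ideal.map_le_iff_le_comap]
    intro t ht hu
    have h2 := MvPowerSeries.isUnit_iff_constantCoeff.1 (isUnit_of_map_unit g _ hu)
    rw [MvPowerSeries.constantCoeff_C] at h2
    exact ht h2
  have hf : ∀ t, f₁ t = f₂ t := by
    intro t
    rw [← sub_eq_zero, ← Ideal.mem_bot, ← Ideal.iInf_pow_eq_bot_of_isLocalRing
      (maximalIdeal (P' ⧸ M)) (maximalIdeal.isMaximal _).ne_top, Ideal.mem_iInf]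
    intro n
    obtain ⟨r, hr⟩ := Groth.Agent.Lib.FSAdic.Completion.exists_sub_mem
      (IsNoetherian.noetherian (maximalIdeal R)) n t
    rw [← AdicCompletion.maximalIdeal_eq_map] at hr
    have h : ∀ g : Rh →+* P' ⧸ M, (maximalIdeal Rh).map g ≤ maximalIdeal (P' ⧸ M) →
        g (t - algebraMap R Rh r) ∈ maximalIdeal (P' ⧸ M) ^ n := fun g hg =>
      Ideal.pow_right_mono hg n (Ideal.map_pow g _ n ▸ Ideal.mem_map_of_mem g hr)
    have h1 := h f₁ (hloc χ hχs)
    have h2 := h f₂ (hloc ((Ideal.Quotient.mk M).comp mp) (Ideal.Quotient.mk_surjective.comp hmps))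
    have h3 := sub_mem h1 h2
    rw [map_sub, map_sub, hR, sub_sub_sub_cancel_right] at h3
    exact h3
  have hker : RingHom.ker mp ≤ RingHom.ker χ := by
    intro g hg
    have hd : ∀ d, ∃ w, MvPowerSeries.coeff d g = a' * w := fun d => by
      have h := congrArg (MvPowerSeries.coeff d) (RingHom.mem_ker.1 hg)
      rw [MvPowerSeries.coeff_map, map_zero, Ideal.Quotient.eq_zero_iff_mem,
        Ideal.mem_span_singleton'] at h
      obtain ⟨w, hw⟩ := h
      exact ⟨w, by rw [← hw, mul_comm]⟩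
    choose w hw using hd
    let w' : P := fun d => w d
    have hg' : g = MvPowerSeries.C a' * w' :=
      MvPowerSeries.ext fun d => by rw [MvPowerSeries.coeff_C_mul]; exact hw d
    rw [RingHom.mem_ker, hg', map_mul, show χ (MvPowerSeries.C a') = f₂ a' from hf a',
      show f₂ a' = Ideal.Quotient.mk M (mp (MvPowerSeries.C a')) from rfl, MvPowerSeries.map_C,
      Ideal.Quotient.eq_zero_iff_mem.2 (Ideal.mem_span_singleton_self a'), map_zero, map_zero,
      zero_mul]
  let ψ : P' →+* P' ⧸ M := RingHom.liftOfSurjective mp hmps ⟨χ, hker⟩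
  have hψ : ∀ z, ψ (mp z) = χ z := fun z => RingHom.liftOfRightInverse_comp_apply _ _ _ _ z
  have hb0 : Ideal.Quotient.mk I b' = 0 := by
    refine eq_zero_of_surjective (R := R') _ ψ (fun y => ?_) (fun r => ?_) ?_
    · obtain ⟨z, rfl⟩ := hχs y
      exact ⟨mp z, hψ z⟩
    · obtain ⟨r, rfl⟩ := Ideal.Quotient.mk_surjective r
      rw [← MvPowerSeries.map_C, hψ]
      exact (hf r).trans (by show Ideal.Quotient.mk M (mp _) = _; rw [MvPowerSeries.map_C])
    · rw [show (MvPowerSeries.X 0 * MvPowerSeries.X 1 - MvPowerSeries.C (Ideal.Quotient.mk I b') : P')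
        = mp (MvPowerSeries.X 0 * MvPowerSeries.X 1 - MvPowerSeries.C b') by
          rw [map_sub, map_mul, MvPowerSeries.map_X, MvPowerSeries.map_X, MvPowerSeries.map_C], hψ]
      show qa (e (Ideal.Quotient.mk _ _)) = 0
      rw [Ideal.Quotient.eq_zero_iff_mem.2 (Ideal.mem_span_singleton_self _), map_zero, map_zero]
  exact Ideal.Quotient.eq_zero_iff_mem.1 hb0

theorem span_eq {R A : Type u} [CommRing R] [IsLocalRing R] [IsNoetherianRing R] [CommRing A]
    [IsLocalRing A] (φ : R →+* A) (a b : R) (ha : a ∈ maximalIdeal R) (hb : b ∈ maximalIdeal R)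
    (h₁ : DualGr.IsThickNode φ a) (h₂ : DualGr.IsThickNode φ b) :
    Ideal.span {a} = Ideal.span {b} := by
  haveI : IsLocalHom (algebraMap R (Curv2.cpl R)) :=
    ((IsLocalRing.local_hom_TFAE _).out 0 2 rfl rfl).mpr AdicCompletion.maximalIdeal_eq_map.ge
  haveI : Module.FaithfullyFlat R (Curv2.cpl R) := Module.FaithfullyFlat.of_flat_of_isLocalHom
  have key : ∀ a b : R, a ∈ maximalIdeal R → DualGr.IsThickNode φ a → DualGr.IsThickNode φ b →
      Ideal.span {b} ≤ Ideal.span {a} := by
    rintro a b ha ⟨e₁, h₁⟩ ⟨e₂, h₂⟩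
    have h := algebraMap_mem_span a b ha (e₂.symm.trans e₁) fun r => by
      rw [RingEquiv.trans_apply, ← h₂, RingEquiv.symm_apply_apply, h₁]
    rw [Ideal.span_singleton_le_iff_mem,
      ← Ideal.comap_map_eq_self_of_faithfullyFlat (B := Curv2.cpl R) (Ideal.span {a}), Ideal.mem_comap,
      Ideal.map_span, Set.image_singleton]
    exact h
  exact le_antisymm (key b a hb h₂ h₁) (key a b ha h₁ h₂)

end Groth.Agent.H24.ThickNode
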