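import Groth.Agent.H24.CompleteFinite
import Mathlib.RingTheory.Polynomial.Quotient
import Mathlib.RingTheory.Nilpotent.Basic
import Mathlib.Algebra.Polynomial.Div

/-!
# Truncated polynomial rings
-/

set_option autoImplicit false
set_option linter.style.haveILetI false

universe u

open Polynomial

namespace Groth.Agent.H24.ThickNode.Trunc

variable {S T : Type u} [CommRing S] [CommRing T]

/-- `S[X] / (X ^ n)`. -/
abbrev E (S : Type u) [CommRing S] (n : ℕ) : Type u :=
  S[X] ⧸ Ideal.span {(X ^ n : S[X])}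

/-- The class of `X`. -/
noncomputable abbrev eps (S : Type u) [CommRing S] (n : ℕ) : E S n := Ideal.Quotient.mk _ X

/-- The constants. -/
noncomputable abbrev cst (S : Type u) [CommRing S] (n : ℕ) : S →+* E S n :=
  (Ideal.Quotient.mk _).comp C

theorem eps_pow (n : ℕ) : eps S n ^ n = 0 := by
  rw [← map_pow]; exact Ideal.Quotient.eq_zero_iff_mem.2 (Ideal.mem_span_singleton_self _)

/-- `X ↦ s X` over a ring map. -/
noncomputable def scale (g : S →+* T) (s : T) (n : ℕ) : E S n →+* E T n :=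
  Ideal.Quotient.lift _ (eval₂RingHom ((cst T n).comp g) (cst T n s * eps T n)) fun z hz => by
    obtain ⟨w, rfl⟩ := Ideal.mem_span_singleton'.1 hz
    rw [map_mul, map_pow, coe_eval₂RingHom, eval₂_X, mul_pow, eps_pow, mul_zero, mul_zero]

theorem scale_eps (g : S →+* T) (s : T) (n : ℕ) :
    scale g s n (eps S n) = cst T n s * eps T n := by
  rw [scale, Ideal.Quotient.lift_mk, coe_eval₂RingHom, eval₂_X]

theorem scale_cst (g : S →+* T) (s : T) (n : ℕ) (x : S) :
    scale g s n (cst S n x) = cst T n (g x) := by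
  show Ideal.Quotient.lift _ _ _ (Ideal.Quotient.mk _ (C x)) = _
  rw [Ideal.Quotient.lift_mk, coe_eval₂RingHom, eval₂_C]
  rfl

/-- Truncation. -/
noncomputable def trunc (S : Type u) [CommRing S] {m n : ℕ} (h : m ≤ n) : E S n →+* E S m :=
  Ideal.Quotient.factor (Ideal.span_singleton_le_span_singleton.2 (pow_dvd_pow X h))

theorem trunc_surjective {m n : ℕ} (h : m ≤ n) : Function.Surjective (trunc S h) :=
  Ideal.Quotient.factor_surjective _

theorem trunc_eps {m n : ℕ} (h : m ≤ n) : trunc S h (eps S n) = eps S m :=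
  Ideal.Quotient.factor_mk _ _

theorem trunc_cst {m n : ℕ} (h : m ≤ n) (x : S) : trunc S h (cst S n x) = cst S m x :=
  Ideal.Quotient.factor_mk _ _

/-- The constant term. -/
noncomputable def cc (S : Type u) [CommRing S] {n : ℕ} (h : 0 < n) : E S n →+* S :=
  Ideal.Quotient.lift _ (evalRingHom 0) fun z hz => by
    obtain ⟨w, rfl⟩ := Ideal.mem_span_singleton'.1 hz
    rw [map_mul, map_pow, coe_evalRingHom, eval_X, zero_pow h.ne', mul_zero]

theorem cc_cst {n : ℕ} (h : 0 < n) (x : S) : cc S h (cst S n x) = x := by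
  show Ideal.Quotient.lift _ _ _ (Ideal.Quotient.mk _ (C x)) = _
  rw [Ideal.Quotient.lift_mk, coe_evalRingHom, eval_C]

theorem cc_eps {n : ℕ} (h : 0 < n) : cc S h (eps S n) = 0 := by
  show Ideal.Quotient.lift _ _ _ (Ideal.Quotient.mk _ X) = _
  rw [Ideal.Quotient.lift_mk, coe_evalRingHom, eval_X]

theorem cc_scale (g : S →+* T) (s : T) {n : ℕ} (h : 0 < n) (x : E S n) :
    cc T h (scale g s n x) = g (cc S h x) := by
  refine RingHom.congr_fun (f := (cc T h).comp (scale g s n)) (g := g.comp (cc S h))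
    (Ideal.Quotient.ringHom_ext (Polynomial.ringHom_ext (fun y => ?_) ?_)) x
  · show cc T h (scale g s n (cst S n y)) = g (cc S h (cst S n y))
    rw [scale_cst, cc_cst, cc_cst]
  · show cc T h (scale g s n (eps S n)) = g (cc S h (eps S n))
    rw [scale_eps, map_mul, cc_eps, cc_eps, mul_zero, map_zero]

theorem cc_trunc {m n : ℕ} (hm : 0 < m) (h : m ≤ n) (x : E S n) :
    cc S hm (trunc S h x) = cc S (hm.trans_le h) x := by
  refine RingHom.congr_fun (f := (cc S hm).comp (trunc S h)) (g := cc S (hm.trans_le h))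
    (Ideal.Quotient.ringHom_ext (Polynomial.ringHom_ext (fun y => ?_) ?_)) x
  · show cc S hm (trunc S h (cst S n y)) = cc S (hm.trans_le h) (cst S n y)
    rw [trunc_cst, cc_cst, cc_cst]
  · show cc S hm (trunc S h (eps S n)) = cc S (hm.trans_le h) (eps S n)
    rw [trunc_eps, cc_eps, cc_eps]

theorem isUnit_iff {n : ℕ} (h : 0 < n) (x : E S n) : IsUnit x ↔ IsUnit (cc S h x) := by
  refine ⟨fun hx => hx.map _, fun hx => ?_⟩
  obtain ⟨y, rfl⟩ := Ideal.Quotient.mk_surjective x
  have h1 : Ideal.Quotient.mk (Ideal.span {(X ^ n : S[X])}) y =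
      cst S n (y.coeff 0) + eps S n * Ideal.Quotient.mk _ y.divX := by
    rw [eps, ← map_mul]
    show _ = Ideal.Quotient.mk _ (C _) + _
    rw [← map_add, add_comm, X_mul_divX_add]
  rw [cc, Ideal.Quotient.lift_mk, coe_evalRingHom, ← coeff_zero_eq_eval_zero] at hx
  rw [h1]
  have hnil : IsNilpotent (eps S n * Ideal.Quotient.mk (Ideal.span {(X ^ n : S[X])}) y.divX) :=
    ⟨n, by rw [mul_pow, eps_pow, zero_mul]⟩
  exact hnil.isUnit_add_left_of_commute (hx.map _) (Commute.all _ _)

theorem mk_eq_zero_iff {n : ℕ} (y : S[X]) :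
    Ideal.Quotient.mk (Ideal.span {(X ^ n : S[X])}) y = 0 ↔ ∀ d < n, y.coeff d = 0 := by
  rw [Ideal.Quotient.eq_zero_iff_mem, Ideal.mem_span_singleton, X_pow_dvd_iff]

theorem cst_mul_eps_pow_eq_zero_iff {n k : ℕ} (hk : k < n) (x : S) :
    cst S n x * eps S n ^ k = 0 ↔ x = 0 := by
  show Ideal.Quotient.mk _ (C x) * Ideal.Quotient.mk _ X ^ k = 0 ↔ _
  rw [← map_pow, ← map_mul, mk_eq_zero_iff]
  refine ⟨fun h => ?_, fun h => by simp [h]⟩
  simpa using h k hk

theorem exists_coeffs (x : E S 3) :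
    ∃ b₀ b₁ b₂ : S, x = cst S 3 b₀ + cst S 3 b₁ * eps S 3 + cst S 3 b₂ * eps S 3 ^ 2 := by
  obtain ⟨y, rfl⟩ := Ideal.Quotient.mk_surjective x
  refine ⟨y.coeff 0, y.coeff 1, y.coeff 2, ?_⟩
  show _ = Ideal.Quotient.mk _ (C _) + Ideal.Quotient.mk _ (C _) * Ideal.Quotient.mk _ X +
    Ideal.Quotient.mk _ (C _) * Ideal.Quotient.mk _ X ^ 2
  rw [← map_pow, ← map_mul, ← map_mul, ← map_add, ← map_add, ← sub_eq_zero, ← map_sub,
    mk_eq_zero_iff]
  intro d hd
  interval_cases d <;> simp [coeff_X, coeff_X_pow, coeff_C]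

theorem scale_injective (g : S →+* T) (hg : Function.Injective g) (s : T)
    (hs : IsUnit s) (n : ℕ) : Function.Injective (scale g s n) := by
  rw [injective_iff_map_eq_zero]
  intro x hx
  obtain ⟨y, rfl⟩ := Ideal.Quotient.mk_surjective x
  rw [scale, Ideal.Quotient.lift_mk] at hx
  have h1 : eval₂RingHom ((cst T n).comp g) (cst T n s * eps T n) y =
      Ideal.Quotient.mk _ ((y.map g).comp (C s * X)) := by
    refine RingHom.congr_fun (g := (Ideal.Quotient.mk _).comp ((compRingHom (C s * X)).comp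
      (mapRingHom g))) (Polynomial.ringHom_ext (fun z => ?_) ?_) y
    · simp
    · simp
  rw [h1, mk_eq_zero_iff] at hx
  rw [mk_eq_zero_iff]
  intro d hd
  have h2 := hx d hd
  rw [comp_C_mul_X_coeff, coeff_map] at h2
  exact hg (by rw [map_zero]; exact (hs.pow d).mul_left_eq_zero.1 h2)

theorem isLocalRing [IsLocalRing S] {n : ℕ} (h : 0 < n) : IsLocalRing (E S n) := by
  haveI : Nontrivial (E S n) := (cc S h).domain_nontrivial
  refine .of_nonunits_add fun {x y} hx hy hu => ?_
  rw [mem_nonunits_iff, isUnit_iff h] at hx hy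
  rw [isUnit_iff h, map_add] at hu
  exact IsLocalRing.nonunits_add hx hy hu

theorem finite (S : Type u) [CommRing S] (n : ℕ) : Module.Finite S (E S n) :=
  (monic_X_pow n).finite_quotient

end Groth.Agent.H24.ThickNode.Trunc
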