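import Groth.Prelude.Def_DualGr
import Groth.Agent.H24.ThickNode.Trunc
import Groth.Agent.H24.SectionPowerSeries
import Groth.Agent.Lib.FSAdic.Completion
import Mathlib.RingTheory.AdicCompletion.Algebra
import Mathlib.RingTheory.AdicCompletion.LocalRing
import Mathlib.RingTheory.Filtration

/-!
# A node is not smooth over a point where the thickness vanishes

If `a ∈ p` the point `x = y = 0` of the node over `p` has a first order tangent vector
`x, y ↦ ε` which does not lift to second order.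
-/

set_option autoImplicit false
set_option linter.style.haveILetI false

universe u

open IsLocalRing

namespace Groth.Agent.H24.ThickNode

open Trunc

section Denominators

variable {O D K : Type u} [CommRing O] [CommRing D] [IsDomain D] [Field K] [Algebra D K]
  [IsFractionRing D K]

/-- Second order lifts of integral sections become integral after scaling the parameter. -/
theorem exists_scale_lift [IsNoetherianRing O] (σ : O →+* D) (rep : ∀ d : D, ∃ o : O, σ o = d)
    (h : O →+* E K 3) (hcc : ∀ o, cc K (by omega) (h o) = algebraMap D K (σ o))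
    (hrep : ∀ d : D, ∃ o : O, σ o = d ∧ h o = cst K 3 (algebraMap D K d)) :
    ∃ d : D, d ≠ 0 ∧ ∃ h' : O →+* E D 3,
      ∀ o, scale (algebraMap D K) (algebraMap D K d)⁻¹ 3 (h' o) = h o := by
  classical
  obtain ⟨G, hG⟩ := (isNoetherianRing_iff_ideal_fg O).1 ‹_› (RingHom.ker σ)
  have hgσ : ∀ g ∈ G, σ g = 0 := fun g hg => (show g ∈ RingHom.ker σ from hG ▸ Ideal.subset_span hg)
  choose b₀ b₁ b₂ hb using fun g : O => exists_coeffs (h g)
  have hb0 : ∀ g ∈ G, b₀ g = 0 := fun g hg => by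
    have := hcc g
    rw [hb, map_add, map_add, map_mul, map_mul, map_pow, cc_cst, cc_eps, cc_cst, cc_cst,
      hgσ g hg, map_zero] at this
    simpa using this
  obtain ⟨d, hd⟩ := IsLocalization.exist_integer_multiples_of_finset (nonZeroDivisors D)
    (G.image b₁ ∪ G.image b₂)
  have hd0 : (d : D) ≠ 0 := nonZeroDivisors.coe_ne_zero d
  let δ := algebraMap D K (d : D)
  have hδ : δ ≠ 0 := fun h0 => hd0 (IsFractionRing.injective D K (by rw [map_zero]; exact h0))
  let φ := scale (algebraMap D K) δ⁻¹ 3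
  let J := φ.range
  have hC : ∀ x : D, cst K 3 (algebraMap D K x) ∈ J := fun x => ⟨cst D 3 x, scale_cst _ _ _ _⟩
  have hgJ : ∀ g ∈ G, h g ∈ J ∧ h g ∈ Ideal.span {eps K 3} := fun g hg => by
    obtain ⟨c₁, hc₁⟩ := hd (b₁ g) (Finset.mem_union_left _ (Finset.mem_image_of_mem _ hg))
    obtain ⟨c₂, hc₂⟩ := hd (b₂ g) (Finset.mem_union_right _ (Finset.mem_image_of_mem _ hg))
    rw [Algebra.smul_def] at hc₁ hc₂
    refine ⟨⟨cst D 3 c₁ * eps D 3 + cst D 3 ((d : D) * c₂) * eps D 3 ^ 2, ?_⟩, ?_⟩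
    · rw [hb g, hb0 g hg, map_add, map_mul, map_mul, map_pow, scale_cst, scale_cst, scale_eps,
        map_zero, zero_add, map_mul (algebraMap D K), hc₁, hc₂, mul_pow, ← mul_assoc, ← map_mul,
        ← mul_assoc, ← map_pow, ← map_mul]
      congr 3
      · field_simp
        exact mul_comm _ _
      · field_simp
        exact mul_comm _ _
    · rw [hb g, hb0 g hg, map_zero, zero_add, Ideal.mem_span_singleton']
      exact ⟨cst K 3 (b₁ g) + cst K 3 (b₂ g) * eps K 3, by ring⟩
  have key : ∀ k o, ∃ j ∈ J, h o - j ∈ Ideal.span {eps K 3} ^ k := by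
    intro k
    induction k with
    | zero => exact fun o => ⟨0, zero_mem _, by simp⟩
    | succ k ih =>
      intro o
      obtain ⟨r, hr, hhr⟩ := hrep (σ o)
      have hz : o - r ∈ Ideal.span (G : Set O) := hG ▸ RingHom.mem_ker.2 (by rw [map_sub, hr, sub_self])
      suffices hP : ∀ z ∈ Ideal.span (G : Set O), ∀ c, ∃ j ∈ J,
          h (c * z) - j ∈ Ideal.span {eps K 3} ^ (k + 1) by
        obtain ⟨j, hj, hj'⟩ := hP _ hz 1
        refine ⟨cst K 3 (algebraMap D K (σ o)) + j, add_mem (hC _) hj, ?_⟩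
        rw [one_mul, map_sub, hhr] at hj'
        rw [← sub_sub]
        exact hj'
      intro z hz
      induction hz using Submodule.span_induction with
      | mem g hg =>
        intro c
        obtain ⟨j, hj, hj'⟩ := ih c
        refine ⟨j * h g, mul_mem hj (hgJ g hg).1, ?_⟩
        rw [map_mul, ← sub_mul, pow_succ (Ideal.span {eps K 3}) k]
        exact Ideal.mul_mem_mul hj' (hgJ g hg).2
      | zero => exact fun c => ⟨0, zero_mem _, by simp⟩
      | add x y _ _ hx hy =>
        intro c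
        obtain ⟨j₁, hj₁, hx⟩ := hx c
        obtain ⟨j₂, hj₂, hy⟩ := hy c
        refine ⟨j₁ + j₂, add_mem hj₁ hj₂, ?_⟩
        convert add_mem hx hy using 1
        rw [mul_add, map_add]; ring
      | smul a x _ hx =>
        intro c
        rw [smul_eq_mul, ← mul_assoc]
        exact hx (c * a)
  have hrange : ∀ o, h o ∈ J := fun o => by
    obtain ⟨j, hj, hj'⟩ := key 3 o
    rw [Ideal.span_singleton_pow, eps_pow, Ideal.span_singleton_zero, Ideal.mem_bot, sub_eq_zero]
      at hj'
    exact hj' ▸ hj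
  have hinj : Function.Injective φ :=
    scale_injective _ (IsFractionRing.injective D K) _ (isUnit_iff_ne_zero.2 (inv_ne_zero hδ)) 3
  let ψ : E D 3 ≃+* φ.range := RingEquiv.ofBijective φ.rangeRestrict
    ⟨fun x y hxy => hinj (congrArg Subtype.val hxy), φ.rangeRestrict_surjective⟩
  refine ⟨d, hd0, ψ.symm.toRingHom.comp (h.codRestrict φ.range hrange), fun o => ?_⟩
  exact congrArg Subtype.val (ψ.apply_symm_apply ⟨h o, hrange o⟩)

end Denominators

/-- Maps from a completion agree if they agree on the ring and are local there. -/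
theorem completion_hom_ext {O T : Type u} [CommRing O] [IsLocalRing O] [IsNoetherianRing O]
    [CommRing T] [IsLocalRing T] [IsNoetherianRing T]
    (G₁ G₂ : AdicCompletion (maximalIdeal O) O →+* T)
    (h : ∀ o, G₁ (algebraMap O _ o) = G₂ (algebraMap O _ o))
    (hloc : ∀ o ∈ maximalIdeal O, G₁ (algebraMap O _ o) ∈ maximalIdeal T) : G₁ = G₂ := by
  ext x
  rw [← sub_eq_zero, ← Ideal.mem_bot, ← Ideal.iInf_pow_eq_bot_of_isLocalRing
    (maximalIdeal T) (maximalIdeal.isMaximal T).ne_top, Ideal.mem_iInf]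
  intro n
  obtain ⟨o, ho⟩ := Groth.Agent.Lib.FSAdic.Completion.exists_sub_mem
    (IsNoetherian.noetherian (maximalIdeal O)) n x
  have key : ∀ G : AdicCompletion (maximalIdeal O) O →+* T,
      (∀ o ∈ maximalIdeal O, G (algebraMap O _ o) ∈ maximalIdeal T) →
      G (x - algebraMap O _ o) ∈ maximalIdeal T ^ n := fun G hG => by
    have h1 := Ideal.mem_map_of_mem G ho
    rw [Ideal.map_pow, Ideal.map_map] at h1
    exact Ideal.pow_right_mono (Ideal.map_le_iff_le_comap.2 fun y hy => Ideal.mem_comap.2 (hG y hy)) n h1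
  have h3 := sub_mem (key G₁ hloc) (key G₂ fun y hy => h y ▸ hloc y hy)
  rwa [map_sub, map_sub, h, sub_sub_sub_cancel_right] at h3

/-- Extension of a local map to the completion. -/
theorem exists_completion_hom {O T : Type u} [CommRing O] [IsLocalRing O] [IsNoetherianRing O]
    [CommRing T] [IsLocalRing T] [IsAdicComplete (maximalIdeal T) T] (h : O →+* T) [IsLocalHom h] :
    ∃ H : AdicCompletion (maximalIdeal O) O →+* T, ∀ o, H (algebraMap O _ o) = h o := by
  have hle : ∀ n, maximalIdeal O ^ n ≤ (maximalIdeal T ^ n).comap h := fun n =>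
    (Ideal.pow_right_mono (show maximalIdeal O ≤ (maximalIdeal T).comap h from
      fun o ho hu => ho (isUnit_of_map_unit h o hu)) n).trans (Ideal.le_comap_pow h n)
  let g : ∀ n, AdicCompletion (maximalIdeal O) O →+* T ⧸ maximalIdeal T ^ n := fun n =>
    (Ideal.quotientMap _ h (hle n)).comp (AdicCompletion.evalₐ (maximalIdeal O) n).toRingHom
  have hg : ∀ {m n : ℕ} (hmn : m ≤ n),
      (Ideal.Quotient.factorPow (maximalIdeal T) hmn).comp (g n) = g m := by
    intro m n hmn
    ext x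
    obtain ⟨o, ho⟩ := Groth.Agent.Lib.FSAdic.Completion.exists_sub_mem
      (IsNoetherian.noetherian (maximalIdeal O)) n x
    have e : ∀ k, k ≤ n → g k x = Ideal.Quotient.mk _ (h o) := fun k hk => by
      show Ideal.quotientMap _ h (hle k) (AdicCompletion.evalₐ (maximalIdeal O) k x) = _
      have h0 : AdicCompletion.evalₐ (maximalIdeal O) k (x - algebraMap O _ o) = 0 :=
        (Groth.Agent.Lib.FSAdic.Completion.evalₐ_eq_zero_iff
          (IsNoetherian.noetherian (maximalIdeal O)) k _).2 (Ideal.pow_le_pow_right hk ho)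
      rw [map_sub, sub_eq_zero] at h0
      rw [h0, AlgHom.commutes, Ideal.Quotient.algebraMap_eq, Ideal.quotientMap_mk]
    rw [RingHom.comp_apply, e n le_rfl, e m hmn, Ideal.Quotient.factor_mk]
  refine ⟨IsAdicComplete.liftRingHom (maximalIdeal T) g hg, fun o => ?_⟩
  rw [IsHausdorff.eq_iff_smodEq (I := maximalIdeal T)]
  intro n
  rw [SModEq.sub_mem, smul_eq_mul, Ideal.mul_top, ← Ideal.Quotient.eq,
    IsAdicComplete.mk_liftRingHom]
  rw [show g n (algebraMap O _ o) = Ideal.quotientMap _ h (hle n)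
    (AdicCompletion.evalₐ (maximalIdeal O) n (algebraMap O _ o)) from rfl]
  rw [AlgHom.commutes, Ideal.Quotient.algebraMap_eq, Ideal.quotientMap_mk]

/-- A node over a prime containing the thickness has an obstructed tangent vector. -/
theorem false_of_lift {R O K : Type u} [CommRing R] [IsLocalRing R] [IsNoetherianRing R]
    [IsAdicComplete (maximalIdeal R) R] [CommRing O] [IsLocalRing O] [IsNoetherianRing O]
    (φ : R →+* O) (p : Ideal R) [p.IsPrime] [Field K] [Algebra (R ⧸ p) K]
    [IsFractionRing (R ⧸ p) K] (a : R) (hap : a ∈ p)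
    (hnode : DualGr.IsThickNode φ a)
    (hlift : ∀ h : O →+* E K 2,
      (∀ r, h (φ r) = cst K 2 (algebraMap (R ⧸ p) K (Ideal.Quotient.mk p r))) →
      ∃ h' : O →+* E K 3, (∀ o, trunc K (by omega : 2 ≤ 3) (h' o) = h o) ∧
        ∀ r, h' (φ r) = cst K 3 (algebraMap (R ⧸ p) K (Ideal.Quotient.mk p r))) : False := by
  classical
  obtain ⟨e, he⟩ := hnode
  let Rh := Curv2.cpl R
  let D := R ⧸ p
  haveI : Nontrivial D := Ideal.Quotient.nontrivial_iff.2 Ideal.IsPrime.ne_top'
  haveI : IsLocalRing D := .of_surjective' (Ideal.Quotient.mk p) Ideal.Quotient.mk_surjective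
  haveI : IsLocalRing (E D 2) := Trunc.isLocalRing (by omega)
  haveI : IsLocalRing (E D 3) := Trunc.isLocalRing (by omega)
  haveI : Module.Finite D (E D 2) := Trunc.finite D 2
  haveI : Module.Finite D (E D 3) := Trunc.finite D 3
  haveI : IsAdicComplete (maximalIdeal D) D := CompleteFinite.isAdicComplete_maximalIdeal (R := R)
  haveI : IsAdicComplete (maximalIdeal (E D 2)) (E D 2) :=
    CompleteFinite.isAdicComplete_maximalIdeal (R := D)
  haveI : IsAdicComplete (maximalIdeal (E D 3)) (E D 3) :=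
    CompleteFinite.isAdicComplete_maximalIdeal (R := D)
  haveI : IsNoetherianRing (E D 2) := IsNoetherianRing.of_finite D _
  -- the tangent vector
  let π : Rh →+* D := (Ideal.Quotient.mk p).comp
    (AdicCompletion.ofAlgEquiv (maximalIdeal R)).symm.toRingHom
  have hπ : ∀ r, π (algebraMap R Rh r) = Ideal.Quotient.mk p r := fun r => by
    show Ideal.Quotient.mk p ((AdicCompletion.ofAlgEquiv (maximalIdeal R)).symm (algebraMap R Rh r)) = _
    rw [AlgEquiv.commutes]; rfl
  letI : Algebra Rh (E D 2) := ((cst D 2).comp π).toAlgebra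
  obtain ⟨τ₀, hτ₀⟩ := Groth.Agent.H24.PowerSeries.exists_hom (A := Rh) (maximalIdeal (E D 2))
    (fun _ : Fin 2 => eps D 2) (fun _ => by
      intro hu
      exact not_isUnit_zero (cc_eps (S := D) (n := 2) (by omega) ▸ hu.map (cc D (by omega))))
  have hτC : ∀ z : Rh, τ₀ (MvPowerSeries.C z) = cst D 2 (π z) := fun z => τ₀.commutes z
  let τ : DualGr.nodeRing R a →+* E D 2 := Ideal.Quotient.lift _ τ₀.toRingHom fun z hz => by
    obtain ⟨w, rfl⟩ := Ideal.mem_span_singleton'.1 hz
    show τ₀ _ = 0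
    rw [map_mul, map_sub, map_mul, hτ₀, hτ₀, hτC, hπ, Ideal.Quotient.eq_zero_iff_mem.2 hap,
      map_zero, sub_zero, ← pow_two, eps_pow, mul_zero]
  let G₀ : Curv2.cpl O →+* E D 2 := τ.comp e.toRingHom
  let h₀ : O →+* E D 2 := G₀.comp (algebraMap O (Curv2.cpl O))
  have h₀R : ∀ r, h₀ (φ r) = cst D 2 (Ideal.Quotient.mk p r) := fun r => by
    show τ (e _) = _
    rw [he r]
    show τ₀ _ = _
    rw [hτC, hπ]
  let ι := scale (algebraMap D K) (1 : K) 2
  obtain ⟨h, hh, hhR⟩ := hlift (ι.comp h₀) fun r => by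
    show ι (h₀ (φ r)) = _
    rw [h₀R, scale_cst]
  let σ : O →+* D := (cc D (by omega)).comp h₀
  have hσR : ∀ r, σ (φ r) = Ideal.Quotient.mk p r := fun r => by
    show cc D (by omega : 0 < 2) (h₀ (φ r)) = _
    rw [h₀R, cc_cst]
  have hcc : ∀ o, cc K (by omega) (h o) = algebraMap D K (σ o) := fun o => by
    rw [← cc_trunc (m := 2) (by omega) (by omega : 2 ≤ 3), hh]
    exact cc_scale _ _ _ _
  obtain ⟨d, hd, h₃, hh₃⟩ := exists_scale_lift (K := K) σ
    (fun x => by obtain ⟨r, rfl⟩ := Ideal.Quotient.mk_surjective x; exact ⟨φ r, hσR r⟩) h hcc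
    (fun x => by obtain ⟨r, rfl⟩ := Ideal.Quotient.mk_surjective x; exact ⟨φ r, hσR r, hhR r⟩)
  let δ := algebraMap D K d
  have hinjK : Function.Injective (algebraMap D K) := IsFractionRing.injective D K
  have hδ : δ ≠ 0 := fun h0 => hd (hinjK (by rw [map_zero]; exact h0))
  have hσs : Function.Surjective σ := fun x => by
    obtain ⟨r, rfl⟩ := Ideal.Quotient.mk_surjective x; exact ⟨φ r, hσR r⟩
  haveI : IsLocalHom σ := IsLocalHom.of_surjective σ hσs
  have hcc₃ : ∀ o, cc D (by omega) (h₃ o) = σ o := fun o => hinjK (by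
    rw [← cc_scale (algebraMap D K) δ⁻¹, hh₃, hcc])
  haveI : IsLocalHom h₃ := ⟨fun o ho => by
    have h1 := ho.map (cc D (by omega : 0 < 3))
    rw [hcc₃] at h1
    exact isUnit_of_map_unit σ o h1⟩
  obtain ⟨H, hH⟩ := exists_completion_hom h₃
  let G₁ : Curv2.cpl O →+* E D 2 := (trunc D (by omega : 2 ≤ 3)).comp H
  let G₂ : Curv2.cpl O →+* E D 2 := (scale (RingHom.id D) d 2).comp G₀
  have hG : ∀ o, G₁ (algebraMap O _ o) = G₂ (algebraMap O _ o) := fun o => by
    refine scale_injective _ hinjK δ⁻¹ (isUnit_iff_ne_zero.2 (inv_ne_zero hδ)) 2 ?_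
    show scale _ _ 2 (trunc D (by omega : 2 ≤ 3) (H _)) = scale _ _ 2 (scale _ d 2 (h₀ o))
    have e1 : ∀ x, scale (algebraMap D K) δ⁻¹ 2 (trunc D (by omega : 2 ≤ 3) x) =
        trunc K (by omega : 2 ≤ 3) (scale (algebraMap D K) δ⁻¹ 3 x) := by
      refine RingHom.congr_fun
        (f := (scale (algebraMap D K) δ⁻¹ 2).comp (trunc D (by omega : 2 ≤ 3)))
        (g := (trunc K (by omega : 2 ≤ 3)).comp (scale (algebraMap D K) δ⁻¹ 3))
        (Ideal.Quotient.ringHom_ext (Polynomial.ringHom_ext (fun y => ?_) ?_))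
      · show scale _ _ 2 (trunc D (by omega : 2 ≤ 3) (cst D 3 y)) = trunc K (by omega : 2 ≤ 3) (scale _ _ 3 (cst D 3 y))
        rw [trunc_cst, scale_cst, scale_cst, trunc_cst]
      · show scale _ _ 2 (trunc D (by omega : 2 ≤ 3) (eps D 3)) = trunc K (by omega : 2 ≤ 3) (scale _ _ 3 (eps D 3))
        rw [trunc_eps, scale_eps, scale_eps, map_mul, trunc_cst, trunc_eps]
    have e2 : ∀ x, scale (algebraMap D K) δ⁻¹ 2 (scale (RingHom.id D) d 2 x) = ι x := by
      refine RingHom.congr_fun
        (f := (scale (algebraMap D K) δ⁻¹ 2).comp (scale (RingHom.id D) d 2)) (g := ι)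
        (Ideal.Quotient.ringHom_ext (Polynomial.ringHom_ext (fun y => ?_) ?_))
      · show scale _ _ 2 (scale _ d 2 (cst D 2 y)) = ι (cst D 2 y)
        rw [scale_cst, scale_cst, scale_cst]; rfl
      · show scale _ _ 2 (scale _ d 2 (eps D 2)) = ι (eps D 2)
        rw [scale_eps, map_mul, scale_cst, scale_eps, scale_eps, ← mul_assoc, ← map_mul,
          mul_inv_cancel₀ hδ]
    rw [e1, e2, hH, hh₃, hh]
    rfl
  have hGG : G₁ = G₂ := completion_hom_ext G₁ G₂ hG fun o ho => by
    intro hu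
    have h1 : IsUnit (H (algebraMap O _ o)) := by
      rw [Trunc.isUnit_iff (by omega : 0 < 3), ← cc_trunc (m := 2) (by omega) (by omega : 2 ≤ 3),
        ← Trunc.isUnit_iff (by omega : 0 < 2)]
      exact hu
    rw [hH] at h1
    exact ho (isUnit_of_map_unit h₃ o h1)
  -- the obstruction
  have hX : ∀ i, ∃ z, H (e.symm (Ideal.Quotient.mk _ (MvPowerSeries.X i))) =
      cst D 3 d * eps D 3 + eps D 3 ^ 2 * z := fun i => by
    have h1 := RingHom.congr_fun hGG (e.symm (Ideal.Quotient.mk _ (MvPowerSeries.X i)))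
    change trunc D (by omega : 2 ≤ 3) (H _) = scale _ d 2 (τ (e (e.symm _))) at h1
    rw [RingEquiv.apply_symm_apply, show τ (Ideal.Quotient.mk _ (MvPowerSeries.X i)) = eps D 2 from
      hτ₀ i, scale_eps, ← trunc_eps (n := 3) (by omega : 2 ≤ 3),
      ← trunc_cst (n := 3) (by omega : 2 ≤ 3), ← map_mul, ← sub_eq_zero, ← map_sub] at h1
    obtain ⟨y, hy⟩ := Ideal.Quotient.mk_surjective
      (H (e.symm (Ideal.Quotient.mk _ (MvPowerSeries.X i))) - cst D 3 d * eps D 3)
    rw [← hy, trunc, Ideal.Quotient.factor_mk, Ideal.Quotient.eq_zero_iff_mem,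
      Ideal.mem_span_singleton] at h1
    obtain ⟨w, hw⟩ := h1
    refine ⟨Ideal.Quotient.mk _ w, ?_⟩
    rw [eps, ← map_pow, ← map_mul, ← hw, hy, ← eps]
    exact (add_sub_cancel _ _).symm
  obtain ⟨z₀, h0⟩ := hX 0
  obtain ⟨z₁, h1⟩ := hX 1
  have hprod : H (e.symm (Ideal.Quotient.mk _ (MvPowerSeries.X 0))) *
      H (e.symm (Ideal.Quotient.mk _ (MvPowerSeries.X 1))) = 0 := by
    rw [← map_mul, ← map_mul, ← map_mul, Ideal.Quotient.eq.2 (Ideal.mem_span_singleton_self _),
      ← he a, RingEquiv.symm_apply_apply, hH]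
    refine scale_injective _ hinjK δ⁻¹ (isUnit_iff_ne_zero.2 (inv_ne_zero hδ)) 3 ?_
    rw [hh₃, hhR, Ideal.Quotient.eq_zero_iff_mem.2 hap, map_zero, map_zero, map_zero]
  have e3 : eps D 3 ^ 3 = 0 := eps_pow 3
  rw [h0, h1] at hprod
  have h4 : cst D 3 (d * d) * eps D 3 ^ 2 = 0 := by
    rw [map_mul]
    linear_combination hprod - (cst D 3 d * z₀ + cst D 3 d * z₁ + eps D 3 * z₀ * z₁) * e3
  exact hd (mul_self_eq_zero.1 ((cst_mul_eps_pow_eq_zero_iff (by omega) _).1 h4))

end Groth.Agent.H24.ThickNode
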