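import Groth.Agent.H24.ThickNode.NotSmooth
import Groth.Prelude.Def_CInt
import Mathlib.AlgebraicGeometry.Morphisms.FiniteType
import Mathlib.AlgebraicGeometry.Noetherian
import Mathlib.AlgebraicGeometry.Morphisms.Smooth
import Mathlib.RingTheory.Smooth.Basic
import Mathlib.RingTheory.Ideal.AssociatedPrime.Basic

/-!
# Thickness over a schematically dense smooth locus
-/

set_option autoImplicit false
set_option linter.style.haveILetI false

universe u

open CategoryTheory AlgebraicGeometry IsLocalRing TopologicalSpace Opposite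

namespace Groth.Agent.H24.ThickNode

open Trunc

variable {R : Type u} [CommRing R] {C : Scheme.{u}} (f : C ⟶ Spec (CommRingCat.of R))
  {U : (Spec (CommRingCat.of R)).Opens}

theorem res_res {V₁ V₂ V₂' V₃ : C.Opens} (i : op V₁ ⟶ op V₂) (j : op V₂ ⟶ op V₃)
    (i' : op V₁ ⟶ op V₂') (j' : op V₂' ⟶ op V₃) (z : Γ(C, V₁)) :
    (C.presheaf.map j).hom ((C.presheaf.map i).hom z) =
      (C.presheaf.map j').hom ((C.presheaf.map i').hom z) := by
  rw [← CommRingCat.comp_apply, ← C.presheaf.map_comp, ← CommRingCat.comp_apply,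
    ← C.presheaf.map_comp, Subsingleton.elim (i ≫ j) (i' ≫ j')]

/-- Associated primes lie in every schematically dense open. -/
theorem mem_of_schDense [IsNoetherianRing R] (hU : CInt.IsSchematicallyDense U) (p : Ideal R)
    (hp : p ∈ associatedPrimes R R) : (⟨p, hp.1⟩ : PrimeSpectrum R) ∈ U := by
  classical
  obtain ⟨hprime, t, ht⟩ := isAssociatedPrime_iff.mp hp
  by_contra hpU
  let ι := (Scheme.ΓSpecIso (CommRingCat.of R)).inv.hom
  let X := Spec (CommRingCat.of R)
  have hz : X.presheaf.map (homOfLE (inf_le_left : (⊤ : X.Opens) ⊓ U ≤ ⊤)).op (ι t) = 0 := by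
    refine TopCat.Presheaf.section_ext X.sheaf _ _ _ fun u hu => ?_
    refine Eq.trans ?_ (map_zero _).symm
    refine (TopCat.Presheaf.germ_res_apply X.presheaf (homOfLE inf_le_left) u hu (ι t)).trans ?_
    obtain ⟨s, hs, hsu⟩ : ∃ s ∈ p, s ∉ (u : PrimeSpectrum R).asIdeal := by
      by_contra hall
      push Not at hall
      exact hpU (((PrimeSpectrum.le_iff_specializes ⟨p, hprime⟩ u).mp hall).mem_open U.2 hu.2)
    have hst : s * t = 0 := by
      rw [ht, Submodule.mem_colon_singleton, Submodule.mem_bot] at hs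
      exact hs
    have hunit : IsUnit (X.presheaf.germ ⊤ u trivial (ι s)) := by
      rw [← X.mem_basicOpen (ι s) u (show u ∈ (⊤ : X.Opens) from trivial), basicOpen_eq_of_affine]
      exact hsu
    refine hunit.mul_right_eq_zero.1 ?_
    rw [← map_mul, ← map_mul, hst, map_zero, map_zero]
  have h0 : ι t = 0 := hU ⊤ (by rw [map_zero]; exact hz)
  have ht0 : t = 0 := (ConcreteCategory.bijective_of_isIso
    (Scheme.ΓSpecIso (CommRingCat.of R)).inv).1 (by rw [map_zero]; exact h0)
  apply hprime.ne_top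
  rw [ht, Ideal.eq_top_iff_one, Submodule.mem_colon_singleton, Submodule.mem_bot, ht0, smul_zero]

/-- First order tangent vectors over a point of the smooth locus lift to second order. -/
theorem exists_lift [hsm : Smooth (morphismRestrict f U)] (c : C) (p : Ideal R) [p.IsPrime]
    (hp : (⟨p, inferInstance⟩ : PrimeSpectrum R) ∈ U) {K : Type u} [Field K] [Algebra (R ⧸ p) K]
    [IsFractionRing (R ⧸ p) K] (h : C.presheaf.stalk c →+* E K 2)
    (hR : ∀ r, h (DualGr.stalkHom f c r) = cst K 2 (algebraMap (R ⧸ p) K (Ideal.Quotient.mk p r))) :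
    ∃ h' : C.presheaf.stalk c →+* E K 3, (∀ o, trunc K (by omega : 2 ≤ 3) (h' o) = h o) ∧
      ∀ r, h' (DualGr.stalkHom f c r) =
        cst K 3 (algebraMap (R ⧸ p) K (Ideal.Quotient.mk p r)) := by
  classical
  obtain ⟨D, ⟨r, rfl⟩, hpr, hrU⟩ :=
    PrimeSpectrum.isTopologicalBasis_basic_opens.exists_subset_of_mem_open hp U.2
  obtain ⟨V, hV, hcV, -⟩ := exists_isAffineOpen_mem_and_subset (show c ∈ (⊤ : C.Opens) from trivial)
  let res : Γ(C, ⊤) →+* Γ(C, V) := (C.presheaf.map (homOfLE le_top).op).hom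
  let g : R →+* Γ(C, V) := res.comp (Coh.toGlobal f)
  let germV : Γ(C, V) →+* C.presheaf.stalk c := (C.presheaf.germ V c hcV).hom
  have hgerm : ∀ x, germV (g x) = DualGr.stalkHom f c x := fun x =>
    TopCat.Presheaf.germ_res_apply C.presheaf (homOfLE le_top) c hcV (Coh.toGlobal f x)
  let b := g r
  let W := C.basicOpen b
  have hW : IsAffineOpen W := hV.basicOpen b
  letI algVW : Algebra Γ(C, V) Γ(C, W) := (C.presheaf.map (homOfLE (C.basicOpen_le b)).op).hom.toAlgebra
  haveI : IsLocalization.Away b Γ(C, W) := hV.isLocalization_basicOpen b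
  letI algRW : Algebra R Γ(C, W) := ((algebraMap Γ(C, V) Γ(C, W)).comp g).toAlgebra
  -- `W` is smooth over `R`
  have hWU : W ≤ f ⁻¹ᵁ U := by
    have e1 : W ≤ C.basicOpen (Coh.toGlobal f r) := by
      show C.basicOpen (C.presheaf.map _ _) ≤ _
      rw [Scheme.basicOpen_res]
      exact inf_le_right
    refine e1.trans ?_
    show C.basicOpen (f.appTop ((Scheme.ΓSpecIso (CommRingCat.of R)).inv r)) ≤ _
    rw [← Scheme.preimage_basicOpen_top, basicOpen_eq_of_affine]
    exact fun y hy => hrU hy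
  haveI : IsAffine W := hW
  haveI : Smooth (W.ι ≫ f) := by
    rw [← Scheme.homOfLE_ι C hWU, Category.assoc, ← morphismRestrict_ι]
    infer_instance
  have hsmooth : RingHom.Smooth (algebraMap R Γ(C, W)) := by
    have h1 : RingHom.Smooth (W.ι ≫ f).appTop.hom :=
      (HasRingHomProperty.iff_of_isAffine (P := @Smooth)).1 ‹_›
    have h2 := (RingHom.Smooth.respectsIso).2 _ (Scheme.ΓSpecIso (CommRingCat.of R)).symm.commRingCatIsoToRingEquiv h1
    have h3 := (RingHom.Smooth.respectsIso).1 _ W.topIso.commRingCatIsoToRingEquiv h2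
    refine (congrArg RingHom.Smooth (RingHom.ext fun x => ?_)).mpr h3
    show C.presheaf.map _ (C.presheaf.map _ (f.appTop _)) = W.topIso.hom ((W.ι ≫ f).appTop _)
    rw [Scheme.Hom.comp_appTop]
    show _ = W.topIso.hom (W.ι.appTop (f.appTop _))
    rw [Scheme.Opens.ι_appTop, Scheme.Opens.topIso_hom]
    exact res_res _ _ _ _ _
  rw [RingHom.smooth_algebraMap] at hsmooth
  haveI := hsmooth
  letI algR2 : Algebra R (E K 2) :=
    (((cst K 2).comp (algebraMap (R ⧸ p) K)).comp (Ideal.Quotient.mk p)).toAlgebra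
  letI algR3 : Algebra R (E K 3) :=
    (((cst K 3).comp (algebraMap (R ⧸ p) K)).comp (Ideal.Quotient.mk p)).toAlgebra
  have hb : IsUnit (h (germV b)) := by
    rw [hgerm, hR, Trunc.isUnit_iff (by omega : 0 < 2), cc_cst, isUnit_iff_ne_zero, Ne,
      IsFractionRing.to_map_eq_zero_iff, Ideal.Quotient.eq_zero_iff_mem]
    exact hpr
  let hW₂ : Γ(C, W) →+* E K 2 := IsLocalization.Away.lift (S := Γ(C, W)) b (g := h.comp germV) hb
  have hW₂V : ∀ x, hW₂ (algebraMap Γ(C, V) Γ(C, W) x) = h (germV x) :=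
    IsLocalization.Away.lift_eq b hb
  let hA : Γ(C, W) →ₐ[R] E K 2 :=
    { hW₂ with commutes' := fun x => (hW₂V (g x)).trans (by rw [hgerm, hR]; rfl) }
  let π : E K 3 →ₐ[R] E K 2 :=
    { trunc K (by omega : 2 ≤ 3) with commutes' := fun x => trunc_cst (by omega : 2 ≤ 3) _ }
  have hπ : Function.Surjective π := trunc_surjective (by omega : 2 ≤ 3)
  have hnil : IsNilpotent (RingHom.ker (π : E K 3 →+* E K 2)) := by
    refine ⟨2, le_antisymm ?_ bot_le⟩
    have hle : RingHom.ker (π : E K 3 →+* E K 2) ≤ Ideal.span {eps K 3 ^ 2} := by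
      intro x hx
      obtain ⟨y, rfl⟩ := Ideal.Quotient.mk_surjective x
      have h1 : Ideal.Quotient.mk (Ideal.span {(Polynomial.X ^ 2 : Polynomial K)}) y = 0 :=
        (Ideal.Quotient.factor_mk (Ideal.span_singleton_le_span_singleton.2
          (pow_dvd_pow (Polynomial.X (R := K)) (by omega : 2 ≤ 3))) y).symm.trans hx
      rw [Ideal.Quotient.eq_zero_iff_mem, Ideal.mem_span_singleton'] at h1
      obtain ⟨w, rfl⟩ := h1
      exact Ideal.mem_span_singleton'.2 ⟨Ideal.Quotient.mk _ w, by rw [map_mul, map_pow]⟩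
    refine (Ideal.pow_right_mono hle 2).trans ?_
    rw [Ideal.span_singleton_pow, ← pow_mul, pow_eq_zero_of_le (by omega : 3 ≤ 2 * 2) (eps_pow 3),
      Ideal.span_singleton_zero]
    exact le_rfl
  let L := Algebra.FormallySmooth.liftOfSurjective hA π hπ hnil
  have hL : ∀ x, π (L x) = hA x := Algebra.FormallySmooth.liftOfSurjective_apply hA π hπ hnil
  letI algVO : Algebra Γ(C, V) (C.presheaf.stalk c) := C.presheaf.algebra_section_stalk ⟨c, hcV⟩
  haveI := hV.isLocalization_stalk ⟨c, hcV⟩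
  let L' : Γ(C, V) →+* E K 3 := L.toRingHom.comp (algebraMap Γ(C, V) Γ(C, W))
  have hL' : ∀ x, trunc K (by omega : 2 ≤ 3) (L' x) = h (germV x) := fun x =>
    (hL _).trans (hW₂V x)
  have hunit : ∀ y : (hV.primeIdealOf ⟨c, hcV⟩).asIdeal.primeCompl, IsUnit (L' y) := fun y => by
    rw [Trunc.isUnit_iff (by omega : 0 < 3), ← cc_trunc (m := 2) (by omega) (by omega : 2 ≤ 3),
      ← Trunc.isUnit_iff (by omega : 0 < 2), hL']
    exact (IsLocalization.map_units (C.presheaf.stalk c) y).map h
  let h' : C.presheaf.stalk c →+* E K 3 := IsLocalization.lift hunit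
  have hh' : ∀ x, h' (germV x) = L' x := IsLocalization.lift_eq hunit
  refine ⟨h', fun o => ?_, fun x => ?_⟩
  · refine RingHom.congr_fun (f := (trunc K (by omega : 2 ≤ 3)).comp h') (g := h) ?_ o
    refine IsLocalization.ringHom_ext (hV.primeIdealOf ⟨c, hcV⟩).asIdeal.primeCompl ?_
    ext x
    show trunc K (by omega : 2 ≤ 3) (h' (germV x)) = h (germV x)
    rw [hh', hL']
  · rw [← hgerm, hh']
    exact L.commutes x

/-- The thickness of a node is a non-zero-divisor when the smooth locus is schematically dense. -/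
theorem mem_nonZeroDivisors [IsNoetherianRing R] [IsLocalRing R]
    [IsAdicComplete (maximalIdeal R) R] [LocallyOfFiniteType f]
    (hU : CInt.IsSchematicallyDense U) [Smooth (morphismRestrict f U)] (c : C) (a : R)
    (hnode : DualGr.IsThickNode (DualGr.stalkHom f c) a) : a ∈ nonZeroDivisors R := by
  by_contra ha
  have h1 : a ∈ ((nonZeroDivisors R : Set R))ᶜ := ha
  rw [← biUnion_associatedPrimes_eq_compl_nonZeroDivisors, Set.mem_iUnion₂] at h1
  obtain ⟨p, hp, hap⟩ := h1
  haveI := hp.1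
  haveI : IsLocallyNoetherian C := LocallyOfFiniteType.isLocallyNoetherian f
  exact false_of_lift (K := FractionRing (R ⧸ p)) (DualGr.stalkHom f c) p a hap hnode
    (exists_lift f c p (mem_of_schDense hU p hp))

end Groth.Agent.H24.ThickNode
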